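import Groth.Agent.H15.CanDual.RLen
import Mathlib.Algebra.Category.ModuleCat.Injective
import Mathlib.Algebra.Category.ModuleCat.Abelian
import Mathlib.Algebra.Algebra.Operations
import Mathlib.RingTheory.Localization.Integer
import Mathlib.RingTheory.SimpleModule.Basic
import Mathlib.CategoryTheory.Abelian.Injective.Dimension
import Mathlib.Algebra.Category.ModuleCat.Ext.HasExt
import Mathlib.Algebra.Category.ModuleCat.InjectiveDimension
import Mathlib.RingTheory.KrullDimension.Field

/-!
# Duality of lattices with respect to a canonical ideal, in dimension one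

`O` a one-dimensional Noetherian local domain, `ω` a nonzero finitely generated `O`-submodule of the fraction
field with injective dimension at most one.  Lattices `X ⊆ K^n` satisfy `X** = X` and
`length (Y* / X*) = length (X / Y)`.
-/

set_option autoImplicit false

universe u

open CategoryTheory
open Groth.Agent.H15.CanDual.RLen

namespace Groth.Agent.H15.CanDual.Basic

variable {O : Type u} [CommRing O] [IsDomain O] {K : Type u} [Field K] [Algebra O K] [IsFractionRing O K]

/-- A canonical submodule. -/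
structure IsCan (ω : Submodule O K) : Prop where
  ne_bot : ω ≠ ⊥
  fg : ω.FG
  injdim : HasInjectiveDimensionLT (ModuleCat.of O ↥ω) 2

theorem injective_fractionRing : Module.Injective O K := by
  refine Module.Baer.injective fun I g => ?_
  by_cases hI : I = ⊥
  · refine ⟨0, fun x hx => ?_⟩
    have : (⟨x, hx⟩ : I) = 0 := Subtype.ext ((Submodule.eq_bot_iff _).mp hI x hx)
    simp [this]
  · obtain ⟨a, ha, ha0⟩ := (Submodule.ne_bot_iff _).mp hI
    have ha0' : algebraMap O K a ≠ 0 := fun h => ha0 (IsFractionRing.injective O K (h.trans (map_zero _).symm))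
    refine ⟨LinearMap.toSpanSingleton O K (g ⟨a, ha⟩ / algebraMap O K a), fun x hx => ?_⟩
    have h : a • g ⟨x, hx⟩ = x • g ⟨a, ha⟩ := by
      rw [← map_smul, ← map_smul]
      congr 1
      exact Subtype.ext (mul_comm a x)
    rw [LinearMap.toSpanSingleton_apply, Algebra.smul_def]
    rw [Algebra.smul_def, Algebra.smul_def] at h
    field_simp
    linear_combination -h

theorem IsCan.injective_quot {ω : Submodule O K} (hω : IsCan ω) : Module.Injective O (K ⧸ ω) := by
  let T : ShortComplex (ModuleCat.{u} O) :=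
    ModuleCat.shortComplexOfCompEqZero ω.subtype ω.mkQ (LinearMap.exact_subtype_mkQ ω).linearMap_comp_eq_zero
  have hT : T.ShortExact := ModuleCat.shortComplex_shortExact T (LinearMap.exact_subtype_mkQ ω)
    Subtype.val_injective (Submodule.mkQ_surjective _)
  have hX2 : Injective T.X₂ := (Module.injective_iff_injective_object O K).mp injective_fractionRing
  have h3 : HasInjectiveDimensionLT T.X₃ 1 := (hT.hasInjectiveDimensionLT_X₃_iff 0 hX2).mpr hω.injdim
  have hC : Injective (ModuleCat.of O (K ⧸ ω)) :=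
    (injective_iff_hasInjectiveDimensionLT_one (X := T.X₃)).mpr h3
  exact (Module.injective_iff_injective_object O _).mpr hC

/-- length of `Hom(T, Q)` for an injective `Q`. -/
theorem length_hom [IsLocalRing O] {Q : Type u} [AddCommGroup Q] [Module O Q] (hQ : Module.Injective O Q)
    {T : Type u} [AddCommGroup T] [Module O T] (hT : IsFiniteLength O T) :
    Module.length O (T →ₗ[O] Q) =
      Module.length O ((O ⧸ IsLocalRing.maximalIdeal O) →ₗ[O] Q) * Module.length O T := by
  induction hT with
  | @of_subsingleton M _ _ hM =>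
    haveI : Subsingleton (M →ₗ[O] Q) := ⟨fun f g => LinearMap.ext fun x => by rw [Subsingleton.elim x 0, map_zero, map_zero]⟩
    rw [Module.length_eq_zero (M := M →ₗ[O] Q), Module.length_eq_zero (M := M), mul_zero]
  | @of_simple_quotient M _ _ N hs _ ih =>
    have h1 : Module.length O M = Module.length O ↥N + 1 := by
      rw [Module.length_eq_add_of_exact N.subtype N.mkQ Subtype.val_injective (Submodule.mkQ_surjective _)
        (LinearMap.exact_subtype_mkQ N), Module.length_eq_one O (M ⧸ N)]
    obtain ⟨I, hI, ⟨e⟩⟩ := isSimpleModule_iff_quot_maximal.mp hs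
    obtain rfl : I = IsLocalRing.maximalIdeal O := IsLocalRing.eq_maximalIdeal hI
    have h2 : Module.length O (M →ₗ[O] Q) =
        Module.length O ((M ⧸ N) →ₗ[O] Q) + Module.length O (↥N →ₗ[O] Q) := by
      refine Module.length_eq_add_of_exact (LinearMap.lcomp O Q N.mkQ) (LinearMap.lcomp O Q N.subtype) ?_ ?_ ?_
      · intro f g hfg
        exact LinearMap.ext fun x => by
          obtain ⟨x, rfl⟩ := N.mkQ_surjective x
          exact LinearMap.congr_fun hfg x
      · intro f
        obtain ⟨g, hg⟩ := hQ.out N.subtype Subtype.val_injective f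
        exact ⟨g, LinearMap.ext hg⟩
      · intro f
        constructor
        · intro hf
          refine ⟨N.liftQ f fun x hx => LinearMap.congr_fun hf ⟨x, hx⟩, LinearMap.ext fun x => rfl⟩
        · rintro ⟨g, rfl⟩
          refine LinearMap.ext fun x => ?_
          show g (N.mkQ x) = 0
          rw [Submodule.mkQ_apply, (Submodule.Quotient.mk_eq_zero _).mpr x.2, map_zero]
    rw [h2, ih, h1, (LinearEquiv.congrLeft Q O e).length_eq, mul_add, mul_one, add_comm]

section Lattices

variable {n : ℕ}

/-- The standard pairing. -/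
noncomputable def pairL (v : Fin n → K) : (Fin n → K) →ₗ[O] K where
  toFun x := ∑ i, v i * x i
  map_add' x y := by simp [mul_add, Finset.sum_add_distrib]
  map_smul' c x := by simp [Finset.smul_sum]

theorem pairL_apply (v x : Fin n → K) : pairL (O := O) v x = ∑ i, v i * x i := rfl

theorem pairL_single (v : Fin n → K) (i : Fin n) (c : K) : pairL (O := O) v (Pi.single i c) = v i * c := by
  rw [pairL_apply, Finset.sum_eq_single i]
  · simp
  · intro j _ hj; simp [hj]
  · simp

theorem pairL_comm (v x : Fin n → K) : pairL (O := O) v x = pairL (O := O) x v := by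
  simp [pairL_apply, mul_comm]

/-- The dual of a submodule of `K^n`. -/
def dual (ω : Submodule O K) (X : Submodule O (Fin n → K)) : Submodule O (Fin n → K) where
  carrier := {v | ∀ x ∈ X, pairL (O := O) v x ∈ ω}
  zero_mem' x _ := by rw [pairL_comm, map_zero]; exact ω.zero_mem
  add_mem' {a b} ha hb x hx := by
    rw [pairL_comm, map_add, pairL_comm x, pairL_comm x]
    exact ω.add_mem (ha x hx) (hb x hx)
  smul_mem' c v hv x hx := by
    rw [pairL_comm, map_smul, pairL_comm x]
    exact ω.smul_mem c (hv x hx)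

theorem mem_dual {ω : Submodule O K} {X : Submodule O (Fin n → K)} {v : Fin n → K} :
    v ∈ dual ω X ↔ ∀ x ∈ X, pairL (O := O) v x ∈ ω := Iff.rfl

theorem dual_anti {ω : Submodule O K} {X Y : Submodule O (Fin n → K)} (h : Y ≤ X) : dual ω X ≤ dual ω Y :=
  fun _ hv x hx => hv x (h hx)

theorem le_dual_dual (ω : Submodule O K) (X : Submodule O (Fin n → K)) : X ≤ dual ω (dual ω X) :=
  fun x hx v hv => by rw [pairL_comm]; exact hv x hx

/-- The product of `n` copies of a submodule of `K`. -/
def box (n : ℕ) (A : Submodule O K) : Submodule O (Fin n → K) := Submodule.pi Set.univ fun _ => A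

theorem mem_box {A : Submodule O K} {x : Fin n → K} : x ∈ box n A ↔ ∀ i, x i ∈ A := by
  simp [box]

theorem single_mem_box {A : Submodule O K} {c : K} (hc : c ∈ A) (i : Fin n) : Pi.single i c ∈ box n A := by
  rw [mem_box]
  intro j
  rcases eq_or_ne j i with rfl | h
  · simpa using hc
  · simp [h]

theorem dual_box (ω A : Submodule O K) : dual ω (box n A) = box n (ω / A) := by
  ext v
  rw [mem_box]
  constructor
  · intro h i
    rw [Submodule.mem_div_iff_forall_mul_mem]
    intro a ha
    have := h _ (single_mem_box ha i)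
    rwa [pairL_single] at this
  · intro h x hx
    rw [pairL_apply]
    exact Submodule.sum_mem _ fun i _ => Submodule.mem_div_iff_forall_mul_mem.mp (h i) _ (mem_box.mp hx i)

theorem rlen_box (B A : Submodule O K) : rlen (box n B) (box n A) = n * rlen B A := by
  rw [box, box, rlen_pi]
  simp

theorem box_mono {A B : Submodule O K} (h : A ≤ B) : box n A ≤ box n B :=
  fun x hx => mem_box.mpr fun i => h (mem_box.mp hx i)

theorem box_le_box_iff {A B : Submodule O K} (hn : 0 < n) : box n A ≤ box n B ↔ A ≤ B := by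
  refine ⟨fun h a ha => ?_, box_mono⟩
  have := mem_box.mp (h (single_mem_box ha ⟨0, hn⟩)) ⟨0, hn⟩
  simpa using this

/-- A full lattice in `K^n`. -/
structure IsLat (X : Submodule O (Fin n → K)) : Prop where
  fg : X.FG
  exists_smul_single : ∃ a : O, a ≠ 0 ∧ ∀ i, (Pi.single i (algebraMap O K a) : Fin n → K) ∈ X

theorem fg_box [IsNoetherianRing O] {A : Submodule O K} (hA : A.FG) : (box n A).FG := by
  haveI : Module.Finite O ↥A := Module.Finite.iff_fg.mpr hA
  let f : (Fin n → ↥A) →ₗ[O] (Fin n → K) := LinearMap.pi fun i => A.subtype ∘ₗ LinearMap.proj i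
  have : box n A = LinearMap.range f := by
    ext x
    rw [mem_box]
    exact ⟨fun h => ⟨fun i => ⟨x i, h i⟩, rfl⟩, by rintro ⟨y, rfl⟩ i; exact (y i).2⟩
  rw [this, ← Submodule.map_top]
  exact Module.Finite.fg_top.map f

theorem exists_algebraMap_mem {A : Submodule O K} (hA : A ≠ ⊥) : ∃ o : O, o ≠ 0 ∧ algebraMap O K o ∈ A := by
  obtain ⟨w, hw, hw0⟩ := (Submodule.ne_bot_iff _).mp hA
  obtain ⟨⟨o, ⟨s, hs⟩⟩, h⟩ := IsLocalization.surj (nonZeroDivisors O) w
  refine ⟨o, ?_, ?_⟩
  · rintro rfl
    simp only [map_zero, mul_eq_zero] at h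
    exact hw0 (h.resolve_right fun h' => nonZeroDivisors.ne_zero hs (IsFractionRing.injective O K (h'.trans (map_zero _).symm)))
  · have h' : s • w = algebraMap O K o := by rw [Algebra.smul_def, mul_comm]; exact h
    exact h' ▸ A.smul_mem s hw

theorem isLat_box [IsNoetherianRing O] {A : Submodule O K} (hA : A.FG) (hA0 : A ≠ ⊥) : IsLat (box n A) := by
  obtain ⟨o, ho, hoA⟩ := exists_algebraMap_mem hA0
  exact ⟨fg_box hA, o, ho, fun i => single_mem_box hoA i⟩

theorem exists_bound {V : Submodule O (Fin n → K)} (hV : V.FG) :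
    ∃ b : O, b ≠ 0 ∧ ∀ x ∈ V, ∀ i, ∃ o : O, algebraMap O K o = algebraMap O K b * x i := by
  classical
  obtain ⟨s, hs⟩ := hV
  obtain ⟨⟨b, hb⟩, hbs⟩ := IsLocalization.exist_integer_multiples_of_finset (nonZeroDivisors O)
    ((s ×ˢ (Finset.univ : Finset (Fin n))).image fun p => p.1 p.2)
  refine ⟨b, nonZeroDivisors.ne_zero hb, fun x hx => ?_⟩
  rw [← hs] at hx
  induction hx using Submodule.span_induction with
  | mem x hx =>
    intro i
    obtain ⟨o, ho⟩ := hbs (x i) (Finset.mem_image.mpr ⟨(x, i), Finset.mem_product.mpr ⟨hx, Finset.mem_univ _⟩, rfl⟩)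
    exact ⟨o, by rw [ho, Algebra.smul_def]⟩
  | zero => exact fun i => ⟨0, by simp⟩
  | add x y _ _ hx hy =>
    intro i
    obtain ⟨o, ho⟩ := hx i
    obtain ⟨o', ho'⟩ := hy i
    exact ⟨o + o', by simp [ho, ho', mul_add]⟩
  | smul c x _ hx =>
    intro i
    obtain ⟨o, ho⟩ := hx i
    refine ⟨c * o, ?_⟩
    rw [map_mul, ho, Pi.smul_apply, Algebra.smul_def]
    ring

theorem IsLat.exists_le_box {X : Submodule O (Fin n → K)} (hX : IsLat X) :
    ∃ b : O, b ≠ 0 ∧ X ≤ box n (Submodule.span O {(algebraMap O K b)⁻¹}) := by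
  obtain ⟨b, hb, h⟩ := exists_bound hX.fg
  refine ⟨b, hb, fun x hx => mem_box.mpr fun i => ?_⟩
  obtain ⟨o, ho⟩ := h x hx i
  rw [Submodule.mem_span_singleton]
  refine ⟨o, ?_⟩
  rw [Algebra.smul_def, ho, mul_comm (algebraMap O K b), mul_assoc,
    mul_inv_cancel₀ (fun h' => hb (IsFractionRing.injective O K (h'.trans (map_zero _).symm))), mul_one]

theorem IsLat.exists_smul_mem {X : Submodule O (Fin n → K)} (hX : IsLat X) {V : Submodule O (Fin n → K)}
    (hV : V.FG) : ∃ c : O, c ≠ 0 ∧ ∀ v ∈ V, c • v ∈ X := by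
  obtain ⟨a, ha, haX⟩ := hX.exists_smul_single
  obtain ⟨b, hb, h⟩ := exists_bound hV
  refine ⟨a * b, mul_ne_zero ha hb, fun v hv => ?_⟩
  choose o ho using h v hv
  have : (a * b) • v = ∑ i, o i • (Pi.single i (algebraMap O K a) : Fin n → K) := by
    funext j
    simp only [Finset.sum_apply, Pi.smul_apply]
    rw [Finset.sum_eq_single j]
    · rw [Pi.single_eq_same, Algebra.smul_def, Algebra.smul_def, map_mul, ho]
      ring
    · intro i _ hij; simp [Pi.single_eq_of_ne hij.symm]
    · simp
  rw [this]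
  exact Submodule.sum_mem _ fun i _ => X.smul_mem _ (haX i)

theorem IsLat.mono {X Y : Submodule O (Fin n → K)} (hX : IsLat X) (h : X ≤ Y) (hY : Y.FG) : IsLat Y :=
  ⟨hY, hX.exists_smul_single.imp fun _ ha => ⟨ha.1, fun i => h (ha.2 i)⟩⟩

theorem IsLat.isLat_dual [IsNoetherianRing O] {ω : Submodule O K} (hω : IsCan ω) {X : Submodule O (Fin n → K)}
    (hX : IsLat X) : IsLat (dual ω X) := by
  obtain ⟨a, ha, haX⟩ := hX.exists_smul_single
  obtain ⟨b, hb, hbX⟩ := exists_bound hX.fg
  obtain ⟨w, hw, hwω⟩ := exists_algebraMap_mem hω.ne_bot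
  have ha' : algebraMap O K a ≠ 0 := fun h' => ha (IsFractionRing.injective O K (h'.trans (map_zero _).symm))
  let μ : K →ₗ[O] K := LinearMap.mulLeft O (algebraMap O K a)⁻¹
  have hle : dual ω X ≤ box n (ω.map μ) := fun v hv => mem_box.mpr fun i => by
    have := hv _ (haX i)
    rw [pairL_single] at this
    refine ⟨_, this, ?_⟩
    show (algebraMap O K a)⁻¹ * (v i * algebraMap O K a) = v i
    field_simp
  refine ⟨Submodule.FG.of_le (fg_box (hω.fg.map μ)) hle, w * b, mul_ne_zero hw hb, fun i x hx => ?_⟩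
  obtain ⟨o, ho⟩ := hbX x hx i
  rw [pairL_comm, pairL_single, map_mul, show x i * (algebraMap O K w * algebraMap O K b) = o • algebraMap O K w by
    rw [Algebra.smul_def, ho]; ring]
  exact ω.smul_mem o hwω

variable [IsNoetherianRing O] [IsLocalRing O]

theorem rlen_ne_top_of_isLat [Ring.KrullDimLE 1 O] {X Y : Submodule O (Fin n → K)} (hY : IsLat Y) (hX : X.FG) :
    rlen Y X ≠ ⊤ := by
  obtain ⟨c, hc, h⟩ := hY.exists_smul_mem hX
  exact rlen_ne_top hX hc h

/-- `Y* / X* ≅ Hom(X / Y, K / ω)`. -/
theorem length_dual_quot {ω : Submodule O K} (hω : IsCan ω) {X Y : Submodule O (Fin n → K)} (hX : IsLat X)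
    (hYX : Y ≤ X) :
    rlen (dual ω X) (dual ω Y) = Module.length O ((↥X ⧸ Y.comap X.subtype) →ₗ[O] (K ⧸ ω)) := by
  haveI hQ := hω.injective_quot
  let Φ : ↥(dual ω Y) →ₗ[O] ((↥X ⧸ Y.comap X.subtype) →ₗ[O] (K ⧸ ω)) :=
    { toFun := fun v => (Y.comap X.subtype).liftQ (ω.mkQ ∘ₗ pairL (O := O) (v : Fin n → K) ∘ₗ X.subtype) fun x hx =>
        LinearMap.mem_ker.mpr ((Submodule.Quotient.mk_eq_zero _).mpr (v.2 _ hx))
      map_add' := fun v w => Submodule.linearMap_qext _ <| LinearMap.ext fun x => by
        show ω.mkQ (pairL (O := O) ((v : Fin n → K) + (w : Fin n → K)) (x : Fin n → K)) =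
          ω.mkQ (pairL (O := O) (v : Fin n → K) (x : Fin n → K)) + ω.mkQ (pairL (O := O) (w : Fin n → K) (x : Fin n → K))
        rw [pairL_comm, map_add, map_add, pairL_comm (x : Fin n → K), pairL_comm (x : Fin n → K)]
      map_smul' := fun c v => Submodule.linearMap_qext _ <| LinearMap.ext fun x => by
        show ω.mkQ (pairL (O := O) (c • (v : Fin n → K)) (x : Fin n → K)) = c • ω.mkQ (pairL (O := O) (v : Fin n → K) (x : Fin n → K))
        rw [pairL_comm, map_smul, map_smul, pairL_comm (x : Fin n → K)] }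
  have hker : LinearMap.ker Φ = (dual ω X).comap (dual ω Y).subtype := by
    ext v
    constructor
    · intro hv x hx
      exact (Submodule.Quotient.mk_eq_zero _).mp
        (LinearMap.congr_fun (LinearMap.mem_ker.mp hv) (Submodule.Quotient.mk (⟨x, hx⟩ : ↥X)))
    · intro hv
      refine LinearMap.mem_ker.mpr (Submodule.linearMap_qext _ (LinearMap.ext fun x => ?_))
      exact (Submodule.Quotient.mk_eq_zero _).mpr (hv _ x.2)
  have hsurj : Function.Surjective Φ := by
    intro η
    obtain ⟨b, hb, hbX⟩ := hX.exists_le_box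
    set β : K := (algebraMap O K b)⁻¹ with hβ
    have hβ0 : β ≠ 0 := inv_ne_zero fun h' => hb (IsFractionRing.injective O K (h'.trans (map_zero _).symm))
    obtain ⟨η', hη'⟩ := hQ.out (Submodule.inclusion hbX) (Submodule.inclusion_injective hbX)
      (η ∘ₗ (Y.comap X.subtype).mkQ)
    choose w hw using fun i => ω.mkQ_surjective (η' ⟨_, single_mem_box (Submodule.mem_span_singleton_self β) i⟩)
    have hv : ∀ x : ↥X, ω.mkQ (pairL (O := O) (fun i => w i / β) (x : Fin n → K)) = η (Submodule.Quotient.mk x) := by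
      intro x
      choose o ho using fun i => Submodule.mem_span_singleton.mp (mem_box.mp (hbX x.2) i)
      have hx : Submodule.inclusion hbX x = ∑ i, o i • (⟨_, single_mem_box (Submodule.mem_span_singleton_self β) i⟩ :
          ↥(box n (Submodule.span O {β}))) := by
        apply Subtype.ext
        funext j
        simp only [Submodule.coe_inclusion, Submodule.coe_sum, Submodule.coe_smul, Finset.sum_apply, Pi.smul_apply]
        rw [Finset.sum_eq_single j]
        · rw [Pi.single_eq_same]; exact (ho j).symm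
        · intro i _ hij; simp [Pi.single_eq_of_ne hij.symm]
        · simp
      have h1 := hη' x
      rw [hx, map_sum] at h1
      rw [← Submodule.mkQ_apply, ← LinearMap.comp_apply η, ← h1, pairL_apply, map_sum]
      refine Finset.sum_congr rfl fun i _ => ?_
      rw [map_smul η', ← hw i, ← map_smul ω.mkQ, ← ho i]
      congr 1
      rw [Algebra.smul_def, Algebra.smul_def]
      field_simp
    refine ⟨⟨fun i => w i / β, fun y hy => ?_⟩, Submodule.linearMap_qext _ (LinearMap.ext fun x => hv x)⟩
    have h0 := hv ⟨y, hYX hy⟩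
    rw [(Submodule.Quotient.mk_eq_zero (Y.comap X.subtype) (x := (⟨y, hYX hy⟩ : ↥X))).mpr hy, map_zero] at h0
    exact (Submodule.Quotient.mk_eq_zero _).mp h0
  rw [rlen, ← hker]
  exact (Φ.quotKerEquivOfSurjective hsurj).length_eq

/-- the type of `ω`. -/
noncomputable def typeLen (ω : Submodule O K) : ℕ∞ :=
  Module.length O ((O ⧸ IsLocalRing.maximalIdeal O) →ₗ[O] (K ⧸ ω))

theorem rlen_dual_aux [Ring.KrullDimLE 1 O] {ω : Submodule O K} (hω : IsCan ω) {X Y : Submodule O (Fin n → K)}
    (hX : IsLat X) (hY : IsLat Y) (hYX : Y ≤ X) :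
    rlen (dual ω X) (dual ω Y) = typeLen ω * rlen Y X := by
  rw [length_dual_quot hω hX hYX]
  exact length_hom hω.injective_quot (Module.length_ne_top_iff.mp (rlen_ne_top_of_isLat hY hX.fg))

theorem one_div_eq (A : Submodule O K) : A / (1 : Submodule O K) = A := by
  ext y
  rw [Submodule.mem_div_iff_forall_mul_mem]
  constructor
  · intro h
    simpa using h 1 (Submodule.mem_one.mpr ⟨1, map_one _⟩)
  · intro h z hz
    obtain ⟨o, rfl⟩ := Submodule.mem_one.mp hz
    rw [mul_comm, ← Algebra.smul_def]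
    exact A.smul_mem o h

theorem fg_one : (1 : Submodule O K).FG := by rw [Submodule.one_eq_span]; exact Submodule.fg_span_singleton 1

theorem isLat_box_one : IsLat (box n (1 : Submodule O K)) :=
  isLat_box fg_one
    ((Submodule.ne_bot_iff _).mpr ⟨1, Submodule.mem_one.mpr ⟨1, map_one _⟩, one_ne_zero⟩)

theorem typeLen_eq_one (hdim : ringKrullDim O = 1) {ω : Submodule O K} (hω : IsCan ω) : typeLen ω = 1 := by
  haveI : Ring.KrullDimLE 1 O := Ring.krullDimLE_iff.mpr (le_of_eq hdim)
  obtain ⟨x, hxm, hx0⟩ : ∃ x ∈ IsLocalRing.maximalIdeal O, x ≠ 0 := by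
    by_contra hcon
    push Not at hcon
    have hF := IsLocalRing.isField_iff_maximalIdeal_eq.2 ((Submodule.eq_bot_iff _).2 hcon)
    have := ringKrullDim_eq_zero_of_isField hF
    rw [hdim] at this
    exact one_ne_zero this
  set ξ : K := algebraMap O K x with hξdef
  have hξ : ξ ≠ 0 := fun h' => hx0 (IsFractionRing.injective O K (h'.trans (map_zero _).symm))
  obtain ⟨o, ho, hoω⟩ := exists_algebraMap_mem hω.ne_bot
  have ho' : algebraMap O K o ≠ 0 := fun h' => ho (IsFractionRing.injective O K (h'.trans (map_zero _).symm))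
  let μ : K →ₗ[O] K := LinearMap.mulLeft O ξ
  let ν : K →ₗ[O] K := LinearMap.mulLeft O (algebraMap O K o)
  have hμ : Function.Injective μ := fun a b h => mul_left_cancel₀ hξ h
  have hν : Function.Injective ν := fun a b h => mul_left_cancel₀ ho' h
  let E : Submodule O K := (1 : Submodule O K).map μ
  have hE1 : E ≤ 1 := by
    rintro _ ⟨a, ha, rfl⟩
    obtain ⟨r, rfl⟩ := Submodule.mem_one.mp ha
    exact Submodule.mem_one.mpr ⟨x * r, by rw [map_mul]; rfl⟩
  have hE : IsLat (box 1 E) := isLat_box (fg_one.map μ)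
    ((Submodule.ne_bot_iff _).mpr ⟨ξ, ⟨1, Submodule.mem_one.mpr ⟨1, map_one _⟩, mul_one ξ⟩, hξ⟩)
  have h := rlen_dual_aux hω (n := 1) isLat_box_one hE (box_mono hE1)
  rw [dual_box, dual_box, one_div_eq, rlen_box, rlen_box] at h
  simp only [Nat.cast_one, one_mul] at h
  have hdivE : (ω / E).map μ = ω := by
    ext y
    constructor
    · rintro ⟨z, hz, rfl⟩
      have := Submodule.mem_div_iff_forall_mul_mem.mp hz ξ ⟨1, Submodule.mem_one.mpr ⟨1, map_one _⟩, mul_one ξ⟩
      exact (show μ z = z * ξ from mul_comm ξ z) ▸ this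
    · intro hy
      refine ⟨y / ξ, ?_, mul_div_cancel₀ y hξ⟩
      refine Submodule.mem_div_iff_forall_mul_mem.mpr ?_
      rintro _ ⟨a, ha, rfl⟩
      obtain ⟨r, rfl⟩ := Submodule.mem_one.mp ha
      rw [show y / ξ * μ (algebraMap O K r) = r • y by
        rw [Algebra.smul_def]; show y / ξ * (ξ * algebraMap O K r) = _; field_simp]
      exact ω.smul_mem r hy
  rw [← rlen_map μ hμ ω (ω / E), hdivE] at h
  -- compare the index of `x ω` in `ω` with that of `x O` in `O`
  set B : Submodule O K := (1 : Submodule O K).map ν with hB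
  have hBω : B ≤ ω := by
    rintro _ ⟨a, ha, rfl⟩
    obtain ⟨r, rfl⟩ := Submodule.mem_one.mp ha
    rw [show ν (algebraMap O K r) = r • algebraMap O K o by rw [Algebra.smul_def]; exact mul_comm _ _]
    exact ω.smul_mem r hoω
  have hμle : ∀ A : Submodule O K, A.map μ ≤ A := by
    rintro A _ ⟨a, ha, rfl⟩
    rw [show μ a = x • a from (Algebra.smul_def x a).symm]
    exact A.smul_mem x ha
  have e1 := rlen_add (hμle B) hBω
  have e2 := rlen_add (Submodule.map_mono (f := μ) hBω) (hμle ω)
  rw [rlen_map μ hμ] at e2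
  have e3 : rlen (B.map μ) B = rlen E (1 : Submodule O K) := by
    have : B.map μ = E.map ν := by
      simp only [hB, E, ← Submodule.map_comp]
      congr 1
      exact LinearMap.ext fun a => mul_left_comm _ _ _
    rw [this, hB, rlen_map ν hν]
  have hfin : rlen B ω ≠ ⊤ := by
    obtain ⟨c, hc, hcB⟩ := (isLat_box (n := 1) (fg_one.map ν)
      (show B ≠ ⊥ from (Submodule.ne_bot_iff _).mpr ⟨algebraMap O K o, ⟨1, Submodule.mem_one.mpr ⟨1, map_one _⟩, mul_one _⟩, ho'⟩)).exists_smul_mem
      (fg_box (n := 1) hω.fg)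
    refine rlen_ne_top hω.fg hc fun a ha => ?_
    have := mem_box.mp (hcB _ (single_mem_box ha 0)) 0
    rwa [Pi.smul_apply, Pi.single_eq_same] at this
  have e4 : rlen (ω.map μ) ω = rlen E (1 : Submodule O K) := by
    rw [← e3]
    have := e1.symm.trans e2
    rw [add_comm (rlen (B.map μ) B)] at this
    exact ((ENat.add_right_injective_of_ne_top hfin) this).symm
  rw [e4] at h
  have hE1ne : rlen E (1 : Submodule O K) ≠ 0 := by
    intro h0
    obtain ⟨a, ha, hμa⟩ := le_of_rlen_eq_zero h0 (Submodule.mem_one.mpr ⟨1, map_one _⟩)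
    obtain ⟨r, rfl⟩ := Submodule.mem_one.mp ha
    have h1 : x * r = 1 := IsFractionRing.injective O K (by rw [map_mul, map_one]; exact hμa)
    exact (IsLocalRing.maximalIdeal.isMaximal O).ne_top
      (Ideal.eq_top_of_isUnit_mem _ hxm (IsUnit.of_mul_eq_one r h1))
  have hE1top : rlen E (1 : Submodule O K) ≠ ⊤ := by
    have := rlen_ne_top_of_isLat hE (isLat_box_one (n := 1)).fg
    rw [rlen_box, Nat.cast_one, one_mul] at this
    exact this
  obtain ⟨m, hm⟩ := ENat.ne_top_iff_exists.mp hE1top
  rw [← hm] at h hE1ne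
  rcases eq_or_ne (typeLen ω) ⊤ with ht | ht
  · rw [ht, ENat.top_mul hE1ne] at h
    exact absurd h (ENat.natCast_ne_top m)
  · obtain ⟨t, ht'⟩ := ENat.ne_top_iff_exists.mp ht
    rw [← ht', ← Nat.cast_mul, Nat.cast_inj] at h
    rw [← ht']
    have hm0 : 0 < m := Nat.pos_of_ne_zero fun h0 => hE1ne (by rw [h0, Nat.cast_zero])
    have : t = 1 := by nlinarith
    rw [this, Nat.cast_one]

/-- `length (Y* / X*) = length (X / Y)`. -/
theorem rlen_dual (hdim : ringKrullDim O = 1) {ω : Submodule O K} (hω : IsCan ω) {X Y : Submodule O (Fin n → K)}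
    (hX : IsLat X) (hY : IsLat Y) (hYX : Y ≤ X) : rlen (dual ω X) (dual ω Y) = rlen Y X := by
  haveI : Ring.KrullDimLE 1 O := Ring.krullDimLE_iff.mpr (le_of_eq hdim)
  rw [rlen_dual_aux hω hX hY hYX, typeLen_eq_one hdim hω, one_mul]

/-- `(ω : ω) = O`. -/
theorem div_self_eq_one (hdim : ringKrullDim O = 1) {ω : Submodule O K} (hω : IsCan ω) :
    ω / ω = (1 : Submodule O K) := by
  haveI : Ring.KrullDimLE 1 O := Ring.krullDimLE_iff.mpr (le_of_eq hdim)
  have h1 : (1 : Submodule O K) ≤ ω / ω := Submodule.le_div_iff_mul_le.mpr (by rw [one_mul])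
  have hLat : IsLat (box 1 (ω / ω)) := by
    have h : IsLat (dual ω (box 1 ω)) := (isLat_box hω.fg hω.ne_bot).isLat_dual hω
    rwa [dual_box] at h
  have h := rlen_dual hdim hω hLat isLat_box_one (box_mono h1)
  rw [dual_box, dual_box, one_div_eq, rlen_box, rlen_box, Nat.cast_one, one_mul, one_mul] at h
  have h2 : ω / (ω / ω) = ω := by
    refine le_antisymm (fun y hy => ?_) (fun y hy => Submodule.mem_div_iff_forall_mul_mem.mpr fun z hz => ?_)
    · simpa using Submodule.mem_div_iff_forall_mul_mem.mp hy 1 (h1 (Submodule.mem_one.mpr ⟨1, map_one _⟩))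
    · rw [mul_comm]; exact Submodule.mem_div_iff_forall_mul_mem.mp hz y hy
  rw [h2, rlen_self] at h
  exact le_antisymm (le_of_rlen_eq_zero h.symm) h1

/-- `X** = X`. -/
theorem dual_dual (hdim : ringKrullDim O = 1) {ω : Submodule O K} (hω : IsCan ω) {X : Submodule O (Fin n → K)}
    (hX : IsLat X) : dual ω (dual ω X) = X := by
  haveI : Ring.KrullDimLE 1 O := Ring.krullDimLE_iff.mpr (le_of_eq hdim)
  obtain ⟨a, ha, haX⟩ := hX.exists_smul_single
  set α : K := algebraMap O K a with hαdef
  have hα : α ≠ 0 := fun h' => ha (IsFractionRing.injective O K (h'.trans (map_zero _).symm))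
  set E : Submodule O K := Submodule.span O {α} with hEdef
  have hYX : box n E ≤ X := by
    intro y hy
    choose o ho using fun i => Submodule.mem_span_singleton.mp (mem_box.mp hy i)
    have : y = ∑ i, o i • (Pi.single i α : Fin n → K) := by
      funext j
      simp only [Finset.sum_apply, Pi.smul_apply]
      rw [Finset.sum_eq_single j]
      · rw [Pi.single_eq_same]; exact (ho j).symm
      · intro i _ hij; simp [Pi.single_eq_of_ne hij.symm]
      · simp
    rw [this]
    exact Submodule.sum_mem _ fun i _ => X.smul_mem _ (haX i)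
  have hY : IsLat (box n E) := isLat_box (Submodule.fg_span_singleton α)
    ((Submodule.ne_bot_iff _).mpr ⟨α, Submodule.mem_span_singleton_self α, hα⟩)
  have hEdd : ω / (ω / E) = E := by
    refine le_antisymm (fun y hy => ?_) (fun y hy => Submodule.mem_div_iff_forall_mul_mem.mpr fun z hz => ?_)
    · have : y / α ∈ ω / ω := Submodule.mem_div_iff_forall_mul_mem.mpr fun z hz => by
        have h3 : z / α ∈ ω / E := Submodule.mem_div_iff_forall_mul_mem.mpr fun e he => by
          obtain ⟨r, rfl⟩ := Submodule.mem_span_singleton.mp he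
          rw [mul_smul_comm, div_mul_cancel₀ z hα]
          exact ω.smul_mem r hz
        have := Submodule.mem_div_iff_forall_mul_mem.mp hy _ h3
        rwa [show y / α * z = y * (z / α) by ring]
      rw [div_self_eq_one hdim hω] at this
      obtain ⟨r, hr⟩ := Submodule.mem_one.mp this
      exact Submodule.mem_span_singleton.mpr ⟨r, by rw [Algebra.smul_def, hr, div_mul_cancel₀ y hα]⟩
    · rw [mul_comm]; exact Submodule.mem_div_iff_forall_mul_mem.mp hz y hy
  have hYdd : dual ω (dual ω (box n E)) = box n E := by rw [dual_box, dual_box, hEdd]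
  have e1 := rlen_dual hdim hω (hY.isLat_dual hω) (hX.isLat_dual hω) (dual_anti hYX)
  rw [rlen_dual hdim hω hX hY hYX, hYdd] at e1
  have e2 := rlen_add hYX (le_dual_dual ω X)
  rw [e1] at e2
  have hfin : rlen (box n E) X ≠ ⊤ := rlen_ne_top_of_isLat hY hX.fg
  have h0 : rlen X (dual ω (dual ω X)) = 0 :=
    ((ENat.add_right_injective_of_ne_top hfin) (by simpa using e2)).symm
  exact le_antisymm (le_of_rlen_eq_zero h0) (le_dual_dual ω X)

theorem div_div_self (hdim : ringKrullDim O = 1) {ω : Submodule O K} (hω : IsCan ω) {A : Submodule O K}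
    (hA : A.FG) (hA0 : A ≠ ⊥) : ω / (ω / A) = A := by
  have h := dual_dual hdim hω (isLat_box (n := 1) hA hA0)
  rw [dual_box, dual_box] at h
  exact le_antisymm ((box_le_box_iff one_pos).mp h.le) ((box_le_box_iff one_pos).mp h.ge)

end Lattices

end Groth.Agent.H15.CanDual.Basic
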