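import Groth.Agent.H15.CanDual.Basic
import Groth.Agent.Lib.Goren.Basic
import Groth.Prelude.Def_CAlg
import Mathlib.RingTheory.IntegralClosure.IsIntegralClosure.Basic

set_option autoImplicit false

universe u

open CategoryTheory
open Groth.Agent.H15.CanDual.RLen Groth.Agent.H15.CanDual.Basic

namespace Groth.Agent.H15.CanDual.Conductor

variable {O : Type u} [CommRing O] [IsDomain O] {K : Type u} [Field K] [Algebra O K] [IsFractionRing O K]

theorem isCan_one [IsNoetherianRing O] [IsLocalRing O] [LocCoh.IsGorensteinLocalRing O] (hdim : ringKrullDim O = 1) :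
    IsCan (1 : Submodule O K) := by
  obtain ⟨n, hn⟩ := LocCoh.IsGorensteinLocalRing.exists_hasInjectiveDimensionLT (A := O)
  obtain ⟨d, hd, -, -, hd'⟩ := Groth.Agent.Lib.Goren.Basic.exists_dim hn
  have hd1 : d = 1 := by
    rw [hdim] at hd
    exact_mod_cast hd.symm
  subst hd1
  refine ⟨(Submodule.ne_bot_iff _).mpr ⟨1, Submodule.mem_one.mpr ⟨1, map_one _⟩, one_ne_zero⟩, fg_one, ?_⟩
  let e : O ≃ₗ[O] ↥(1 : Submodule O K) :=
    (LinearEquiv.ofInjective (Algebra.linearMap O K) (IsFractionRing.injective O K)).trans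
      (LinearEquiv.ofEq _ _ Submodule.one_eq_range.symm)
  haveI := hd'
  exact hasInjectiveDimensionLT_of_iso (e.toModuleIso) 2

/-- the normalization as a submodule -/
noncomputable abbrev nc (O : Type u) [CommRing O] (K : Type u) [Field K] [Algebra O K] : Submodule O K :=
  Subalgebra.toSubmodule (integralClosure O K)

theorem one_le_nc : (1 : Submodule O K) ≤ nc O K := by
  intro x hx
  obtain ⟨a, rfl⟩ := Submodule.mem_one.mp hx
  exact (integralClosure O K).algebraMap_mem a

theorem fg_nc (hfin : Module.Finite O ↥(integralClosure O K)) : (nc O K).FG :=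
  Module.Finite.iff_fg.mp hfin

theorem nc_ne_bot : nc O K ≠ ⊥ :=
  (Submodule.ne_bot_iff _).mpr ⟨1, one_le_nc (Submodule.mem_one.mpr ⟨1, map_one _⟩), one_ne_zero⟩

/-- the conductor as a submodule of `K` -/
theorem colon_smul_one : ((1 : Submodule O K).colon (nc O K)) • (1 : Submodule O K) = 1 / nc O K := by
  refine le_antisymm (Submodule.smul_le.mpr fun a ha z hz => ?_) fun z hz => ?_
  · obtain ⟨r, rfl⟩ := Submodule.mem_one.mp hz
    refine Submodule.mem_div_iff_forall_mul_mem.mpr fun y hy => ?_
    rw [smul_mul_assoc, ← Algebra.smul_def, smul_comm]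
    exact Submodule.smul_mem _ r (Submodule.mem_colon.mp ha y hy)
  · have h1 : z ∈ (1 : Submodule O K) := by
      simpa using Submodule.mem_div_iff_forall_mul_mem.mp hz 1 (one_le_nc (Submodule.mem_one.mpr ⟨1, map_one _⟩))
    obtain ⟨a, rfl⟩ := Submodule.mem_one.mp h1
    rw [← mul_one (algebraMap O K a), ← Algebra.smul_def]
    refine Submodule.smul_mem_smul (Submodule.mem_colon.mpr fun y hy => ?_) (Submodule.mem_one.mpr ⟨1, map_one _⟩)
    rw [Algebra.smul_def]
    exact Submodule.mem_div_iff_forall_mul_mem.mp hz y hy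

theorem colon_smul_top :
    ((1 : Submodule O K).colon (nc O K)) • (⊤ : Submodule O ↥(integralClosure O K)) =
      Submodule.comap (nc O K).subtype (1 / nc O K) := by
  refine le_antisymm (Submodule.smul_le.mpr fun a ha z _ => ?_) fun z hz => ?_
  · show ((a • z : ↥(integralClosure O K)) : K) ∈ (1 : Submodule O K) / nc O K
    refine Submodule.mem_div_iff_forall_mul_mem.mpr fun y hy => ?_
    rw [show ((a • z : ↥(integralClosure O K)) : K) * y = a • ((z : K) * y) from smul_mul_assoc _ _ _]
    exact Submodule.mem_colon.mp ha _ ((integralClosure O K).mul_mem z.2 hy)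
  · have hz' : (z : K) ∈ (1 : Submodule O K) / nc O K := hz
    rw [← colon_smul_one] at hz'
    have h1 : (z : K) ∈ (1 : Submodule O K) := by
      have : (1 : Submodule O K) / nc O K ≤ 1 := fun w hw => by
        simpa using Submodule.mem_div_iff_forall_mul_mem.mp hw 1 (one_le_nc (Submodule.mem_one.mpr ⟨1, map_one _⟩))
      exact this hz
    obtain ⟨a, ha⟩ := Submodule.mem_one.mp h1
    have hz1 : z = a • (1 : ↥(integralClosure O K)) := Subtype.ext (by
      show (z : K) = a • (1 : K)
      rw [Algebra.smul_def, mul_one, ha])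
    rw [hz1]
    refine Submodule.smul_mem_smul (Submodule.mem_colon.mpr fun y hy => ?_) Submodule.mem_top
    rw [Algebra.smul_def, ha]
    exact Submodule.mem_div_iff_forall_mul_mem.mp hz y hy

theorem div_nc_eq {ω : Submodule O K} (hdd : ω / ω = (1 : Submodule O K)) (h1 : (1 : Submodule O K) ≤ ω) (h2 : ω ≤ nc O K) :
    ω / nc O K = 1 / nc O K := by
  refine le_antisymm (fun z hz => ?_) (fun z hz => ?_)
  · refine Submodule.mem_div_iff_forall_mul_mem.mpr fun y hy => ?_
    rw [← hdd]
    refine Submodule.mem_div_iff_forall_mul_mem.mpr fun w hw => ?_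
    rw [mul_assoc]
    exact Submodule.mem_div_iff_forall_mul_mem.mp hz _ ((integralClosure O K).mul_mem hy (h2 hw))
  · exact Submodule.mem_div_iff_forall_mul_mem.mpr fun y hy => h1 (Submodule.mem_div_iff_forall_mul_mem.mp hz y hy)

/-- `length (ω / (ω : A)) = length (A / O)` -/
theorem rlen_div [IsNoetherianRing O] [IsLocalRing O] (hdim : ringKrullDim O = 1) {ω A : Submodule O K}
    (hω : IsCan ω) (hA : A.FG) (h1 : (1 : Submodule O K) ≤ A) : rlen (ω / A) ω = rlen 1 A := by
  have hA0 : A ≠ ⊥ := (Submodule.ne_bot_iff _).mpr ⟨1, h1 (Submodule.mem_one.mpr ⟨1, map_one _⟩), one_ne_zero⟩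
  have := rlen_dual hdim hω (isLat_box (n := 1) hA hA0) isLat_box_one (box_mono h1)
  rwa [dual_box, dual_box, one_div_eq, rlen_box, rlen_box, Nat.cast_one, one_mul, one_mul] at this

end Groth.Agent.H15.CanDual.Conductor
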