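import Groth.Agent.H15.CanDual.Hom
import Groth.Agent.H15.CanDual.Conductor
import Groth.Agent.S15009

set_option autoImplicit false

universe u

open Groth.Agent.H15.CanDual.RLen Groth.Agent.H15.CanDual.Basic Groth.Agent.H15.CanDual.Conductor
  Groth.Agent.H15.CanDual.Hom

namespace Groth.Agent.H15.CanDual.Between

variable {O : Type u} [CommRing O] [IsDomain O] [IsNoetherianRing O] [IsLocalRing O]
  [IsAlgClosed (IsLocalRing.ResidueField O)] {K : Type u} [Field K] [Algebra O K] [IsFractionRing O K]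

theorem noZeroSMul {n : ℕ} (X : Submodule O (Fin n → K)) : NoZeroSMulDivisors O ↥X :=
  ⟨fun {c v} h => by
    by_cases hc : c = 0
    · exact Or.inl hc
    · refine Or.inr (Subtype.ext (funext fun i => ?_))
      have h1 := congrFun (congrArg Subtype.val h) i
      simp only [Submodule.coe_smul, Pi.smul_apply, Submodule.coe_zero, Pi.zero_apply, Algebra.smul_def] at h1
      exact (mul_eq_zero.mp h1).resolve_left (algebraMap_ne hc)⟩

theorem exists_between (hdim : ringKrullDim O = 1) (hfin : Module.Finite O ↥(integralClosure O K)) (M : Type u)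
    [AddCommGroup M] [Module O M] [Module.Finite O M] [NoZeroSMulDivisors O M] {n : ℕ}
    (hn : Module.finrank K (TensorProduct O K M) = n) :
    ∃ N : Submodule O (Fin n → K), IsLat N ∧ box n 1 ≤ N ∧ N ≤ box n (nc O K) ∧ Nonempty (M ≃ₗ[O] ↥N) := by
  obtain ⟨N, h1, h2, he⟩ := Groth.Agent.S15009.result O hdim K hfin M n hn
  exact ⟨N, (isLat_box_one (O := O) (K := K)).mono h1 (Submodule.FG.of_le (fg_box (fg_nc hfin)) h2), h1, h2, he⟩

/-- Every lattice is the dual of a lattice between `O^n` and `O~^n`. -/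
theorem exists_iso_dual_between (hdim : ringKrullDim O = 1) (hfin : Module.Finite O ↥(integralClosure O K))
    {ω : Submodule O K} (hω : IsCan ω) (M : Type u)
    [AddCommGroup M] [Module O M] [Module.Finite O M] [NoZeroSMulDivisors O M] {n : ℕ}
    (hn : Module.finrank K (TensorProduct O K M) = n) :
    ∃ N : Submodule O (Fin n → K), IsLat N ∧ box n 1 ≤ N ∧ N ≤ box n (nc O K) ∧ Nonempty (M ≃ₗ[O] ↥(dual ω N)) := by
  obtain ⟨N, hN, -, -, ⟨e⟩⟩ := exists_between hdim hfin M hn
  have hD := hN.isLat_dual hω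
  haveI : Module.Finite O ↥(dual ω N) := Module.Finite.iff_fg.mpr hD.fg
  haveI := noZeroSMul (dual ω N)
  obtain ⟨N2, hN2, g1, g2, ⟨e2⟩⟩ := exists_between hdim hfin ↥(dual ω N) (finrank_tensor hD)
  exact ⟨N2, hN2, g1, g2, ⟨e.trans ((LinearEquiv.ofEq _ _ (dual_dual hdim hω hN).symm).trans (dualCongr ω hD hN2 e2))⟩⟩

end Groth.Agent.H15.CanDual.Between
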