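import Groth.Agent.H15.CanDual.RLen
import Groth.Agent.S15009
import Mathlib.RingTheory.UniqueFactorizationDomain.Basic

set_option autoImplicit false

universe u v

open Groth.Agent.H15.CanDual.RLen

namespace Groth.Agent.H15.CanDual.Colength

variable {O : Type u} [CommRing O] {C : Type u} [CommRing C] [Algebra O C]

/-- `length_O (C / eC)`. -/
noncomputable def cl (O : Type u) [CommRing O] {C : Type u} [CommRing C] [Algebra O C] (e : C) : ℕ∞ :=
  rlen ((Ideal.span {e}).restrictScalars O) ⊤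

theorem cl_of_isUnit {e : C} (he : IsUnit e) : cl O e = 0 := by
  rw [cl, Ideal.span_singleton_eq_top.mpr he, Submodule.restrictScalars_top, rlen_self]

theorem cl_mul [IsDomain C] {a : C} (ha : a ≠ 0) (b : C) : cl O (a * b) = cl O b + cl O a := by
  have h1 : ∀ x : C, ((Ideal.span {a * x}).restrictScalars O) = ((Ideal.span {x}).restrictScalars O).map (LinearMap.mulLeft O a) := by
    intro x
    ext z
    simp only [Submodule.mem_map, Submodule.restrictScalars_mem, Ideal.mem_span_singleton', LinearMap.mulLeft_apply]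
    constructor
    · rintro ⟨c, rfl⟩; exact ⟨c * x, ⟨c, rfl⟩, by ring⟩
    · rintro ⟨_, ⟨c, rfl⟩, rfl⟩; exact ⟨c, by ring⟩
  have h2 : ((Ideal.span {a}).restrictScalars O) = (⊤ : Submodule O C).map (LinearMap.mulLeft O a) := by
    rw [← mul_one a, h1, Ideal.span_singleton_one, Submodule.restrictScalars_top, mul_one]
  rw [cl, cl, cl, rlen_add (A := ⊤) (B := (Ideal.span {a}).restrictScalars O) (C := (Ideal.span {a * b}).restrictScalars O)
    (by rw [Submodule.restrictScalars_le]; exact Ideal.span_singleton_le_span_singleton.mpr (dvd_mul_right a b)) le_top, h1 b]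
  rw [h2]
  rw [rlen_map _ (fun x y h => mul_left_cancel₀ ha h)]

theorem cl_prime [IsLocalRing O] [IsAlgClosed (IsLocalRing.ResidueField O)] [Algebra.IsIntegral O C]
    {p : C} (hp : (Ideal.span {p}).IsMaximal) : cl O p = 1 := by
  set P := Ideal.span {p} with hP
  have hPc : P.comap (algebraMap O C) = IsLocalRing.maximalIdeal O :=
    IsLocalRing.eq_maximalIdeal (Ideal.isMaximal_comap_of_isIntegral_of_isMaximal _)
  let f : O →ₗ[O] (↥(⊤ : Submodule O C) ⧸ (P.restrictScalars O).comap (⊤ : Submodule O C).subtype) :=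
    ((P.restrictScalars O).comap (⊤ : Submodule O C).subtype).mkQ ∘ₗ
      LinearMap.codRestrict ⊤ (Algebra.linearMap O C) (fun _ => trivial)
  have hf : Function.Surjective f := by
    intro y
    obtain ⟨⟨c, hc⟩, rfl⟩ := Submodule.Quotient.mk_surjective _ y
    haveI := hp.isPrime
    obtain ⟨a, ha⟩ := Groth.Agent.S15009.residue_surj P hPc c
    refine ⟨a, (Submodule.Quotient.eq _).mpr ?_⟩
    show algebraMap O C a - c ∈ P
    rw [← neg_sub]
    exact P.neg_mem ha
  have hk : LinearMap.ker f = IsLocalRing.maximalIdeal O := by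
    ext a
    rw [← hPc, Ideal.mem_comap, LinearMap.mem_ker]
    exact Submodule.Quotient.mk_eq_zero ((P.restrictScalars O).comap (⊤ : Submodule O C).subtype)
  rw [cl, rlen, ← ((Submodule.quotEquivOfEq _ _ hk.symm).trans (f.quotKerEquivOfSurjective hf)).length_eq]
  haveI : IsSimpleModule O (O ⧸ IsLocalRing.maximalIdeal O) :=
    isSimpleModule_iff_quot_maximal.mpr ⟨_, IsLocalRing.maximalIdeal.isMaximal O, ⟨LinearEquiv.refl _ _⟩⟩
  exact Module.length_eq_one O _

variable [IsLocalRing O] [IsAlgClosed (IsLocalRing.ResidueField O)] [Algebra.IsIntegral O C]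
  [IsDomain C] [IsPrincipalIdealRing C]

theorem exists_dvd {d : C} (hd : d ≠ 0) :
    ∃ N : ℕ, cl O d = N ∧ ∀ m ≤ N, ∃ e, e ∣ d ∧ cl O e = (m : ℕ) := by
  induction d using UniqueFactorizationMonoid.induction_on_prime with
  | h₁ => exact absurd rfl hd
  | h₂ x hx => exact ⟨0, by rw [cl_of_isUnit hx, Nat.cast_zero], fun m hm => ⟨1, one_dvd _, by
      rw [cl_of_isUnit isUnit_one, Nat.le_zero.mp hm, Nat.cast_zero]⟩⟩
  | h₃ a p ha hp ih =>
    obtain ⟨N, hN, h⟩ := ih ha
    have hp1 : cl O p = 1 := cl_prime (PrincipalIdealRing.isMaximal_of_irreducible hp.irreducible)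
    refine ⟨N + 1, by rw [cl_mul hp.ne_zero, hp1, hN, Nat.cast_add, Nat.cast_one], fun m hm => ?_⟩
    rcases Nat.eq_zero_or_pos m with rfl | hm0
    · exact ⟨1, one_dvd _, by rw [cl_of_isUnit isUnit_one, Nat.cast_zero]⟩
    · obtain ⟨e, he, hce⟩ := h (m - 1) (by omega)
      refine ⟨p * e, mul_dvd_mul_left p he, ?_⟩
      rw [cl_mul hp.ne_zero, hp1, hce]
      norm_cast
      omega

theorem exists_dvd_tuple : ∀ {n : ℕ} (d : Fin n → C), (∀ i, d i ≠ 0) →
    ∃ N : ℕ, ∑ i, cl O (d i) = N ∧ ∀ m ≤ N, ∃ e : Fin n → C, (∀ i, e i ∣ d i) ∧ ∑ i, cl O (e i) = (m : ℕ) := by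
  intro n
  induction n with
  | zero => exact fun d _ => ⟨0, by simp, fun m hm => ⟨d, fun i => dvd_rfl, by simp [Nat.le_zero.mp hm]⟩⟩
  | succ n ih =>
    intro d hd
    obtain ⟨N, hN, h⟩ := ih (fun i => d i.succ) fun i => hd _
    obtain ⟨N0, hN0, h0⟩ := exists_dvd (O := O) (hd 0)
    refine ⟨N0 + N, by rw [Fin.sum_univ_succ, hN0, hN, Nat.cast_add], fun m hm => ?_⟩
    obtain ⟨e0, he0, hc0⟩ := h0 (min m N0) (min_le_right _ _)
    obtain ⟨e, he, hce⟩ := h (m - min m N0) (by omega)
    refine ⟨Fin.cons e0 e, fun i => ?_, ?_⟩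
    · refine Fin.cases ?_ (fun j => ?_) i
      · simpa using he0
      · simpa using he j
    · rw [Fin.sum_univ_succ]
      simp only [Fin.cons_zero, Fin.cons_succ, hc0, hce]
      norm_cast
      omega

end Groth.Agent.H15.CanDual.Colength
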