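import Mathlib.Algebra.Homology.DerivedCategory.Ext.ExactSequences
import Mathlib.Algebra.Category.ModuleCat.Ext.HasExt
import Mathlib.GroupTheory.QuotientGroup.Basic

set_option autoImplicit false

universe w v u

open CategoryTheory CategoryTheory.Abelian

namespace Groth.Agent.H15.CanDual.ExtShift

variable {C : Type u} [Category.{v} C] [Abelian C] [HasExt.{w} C] {S : ShortComplex C}

/-- contravariant dimension shift -/
noncomputable def shift₁ (hS : S.ShortExact) (Y : C) (j : ℕ) (h1 : Subsingleton (Ext S.X₂ Y (j + 1)))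
    (h2 : Subsingleton (Ext S.X₂ Y (j + 2))) : Ext S.X₁ Y (j + 1) ≃+ Ext S.X₃ Y (j + 2) :=
  AddEquiv.ofBijective (hS.extClass.precomp Y (show 1 + (j + 1) = j + 2 by omega)) <| by
    constructor
    · rw [injective_iff_map_eq_zero]
      intro x hx
      obtain ⟨x₂, rfl⟩ := Ext.contravariant_sequence_exact₁ hS Y x (show 1 + (j + 1) = j + 2 by omega) hx
      rw [Subsingleton.elim x₂ 0, Ext.comp_zero]
    · intro x
      obtain ⟨x₁, h⟩ := Ext.contravariant_sequence_exact₃ hS Y x (Subsingleton.elim _ _) (show 1 + (j + 1) = j + 2 by omega)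
      exact ⟨x₁, h⟩

/-- covariant dimension shift -/
noncomputable def shift₂ (hS : S.ShortExact) (X : C) (j : ℕ) (h1 : Subsingleton (Ext X S.X₂ (j + 1)))
    (h2 : Subsingleton (Ext X S.X₂ (j + 2))) : Ext X S.X₃ (j + 1) ≃+ Ext X S.X₁ (j + 2) :=
  AddEquiv.ofBijective (hS.extClass.postcomp X (show (j + 1) + 1 = j + 2 by omega)) <| by
    constructor
    · rw [injective_iff_map_eq_zero]
      intro x hx
      obtain ⟨x₂, rfl⟩ := Ext.covariant_sequence_exact₃ X hS x (show (j + 1) + 1 = j + 2 by omega) hx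
      rw [Subsingleton.elim x₂ 0, Ext.zero_comp]
    · intro x
      obtain ⟨x₃, h⟩ := Ext.covariant_sequence_exact₁ X hS x (Subsingleton.elim _ _) (show (j + 1) + 1 = j + 2 by omega)
      exact ⟨x₃, h⟩

/-- `f ↦ S.f ≫ f` -/
def preHom (S : ShortComplex C) (Y : C) : (S.X₂ ⟶ Y) →+ (S.X₁ ⟶ Y) :=
  AddMonoidHom.mk' (fun φ => S.f ≫ φ) (fun _ _ => Preadditive.comp_add _ _ _ _ _ _)

/-- `f ↦ f ≫ S.g` -/
def postHom (S : ShortComplex C) (X : C) : (X ⟶ S.X₂) →+ (X ⟶ S.X₃) :=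
  AddMonoidHom.mk' (fun φ => φ ≫ S.g) (fun _ _ => Preadditive.add_comp _ _ _ _ _ _)

/-- `Hom(S.X₁, Y) / Hom(S.X₂, Y) ≅ Ext¹(S.X₃, Y)` -/
noncomputable def one₁ (hS : S.ShortExact) (Y : C) (h1 : Subsingleton (Ext S.X₂ Y 1)) :
    ((S.X₁ ⟶ Y) ⧸ (preHom S Y).range) ≃+ Ext S.X₃ Y 1 :=
  let δ : (S.X₁ ⟶ Y) →+ Ext S.X₃ Y 1 :=
    (hS.extClass.precomp Y (show 1 + 0 = 1 from rfl)).comp Ext.addEquiv₀.symm.toAddMonoidHom
  (QuotientAddGroup.quotientAddEquivOfEq (show (preHom S Y).range = δ.ker by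
    ext φ
    constructor
    · rintro ⟨ψ, rfl⟩
      show hS.extClass.comp (Ext.mk₀ (S.f ≫ ψ)) (show 1 + 0 = 1 from rfl) = 0
      rw [← Ext.mk₀_comp_mk₀, ← Ext.comp_assoc _ _ _ (add_zero 1) (zero_add 0) (by omega),
        ShortComplex.ShortExact.extClass_comp, Ext.zero_comp]
    · intro hφ
      obtain ⟨x₂, h⟩ := Ext.contravariant_sequence_exact₁ hS Y (Ext.mk₀ φ) (show 1 + 0 = 1 from rfl) hφ
      obtain ⟨ψ, rfl⟩ := (Ext.mk₀_bijective _ _).surjective x₂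
      rw [Ext.mk₀_comp_mk₀] at h
      exact ⟨ψ, (Ext.mk₀_bijective _ _).injective h⟩)).trans
    (QuotientAddGroup.quotientKerEquivOfSurjective δ (fun x => by
      obtain ⟨x₁, h⟩ := Ext.contravariant_sequence_exact₃ hS Y x (Subsingleton.elim _ _) (show 1 + 0 = 1 from rfl)
      obtain ⟨φ, rfl⟩ := (Ext.mk₀_bijective _ _).surjective x₁
      exact ⟨φ, h⟩))

/-- `Hom(X, S.X₃) / Hom(X, S.X₂) ≅ Ext¹(X, S.X₁)` -/
noncomputable def one₂ (hS : S.ShortExact) (X : C) (h1 : Subsingleton (Ext X S.X₂ 1)) :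
    ((X ⟶ S.X₃) ⧸ (postHom S X).range) ≃+ Ext X S.X₁ 1 :=
  let δ : (X ⟶ S.X₃) →+ Ext X S.X₁ 1 :=
    (hS.extClass.postcomp X (show 0 + 1 = 1 from rfl)).comp Ext.addEquiv₀.symm.toAddMonoidHom
  (QuotientAddGroup.quotientAddEquivOfEq (show (postHom S X).range = δ.ker by
    ext φ
    constructor
    · rintro ⟨ψ, rfl⟩
      show (Ext.mk₀ (ψ ≫ S.g)).comp hS.extClass (show 0 + 1 = 1 from rfl) = 0
      rw [← Ext.mk₀_comp_mk₀, Ext.comp_assoc _ _ _ (zero_add 0) (zero_add 1) (by omega),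
        ShortComplex.ShortExact.comp_extClass, Ext.comp_zero]
    · intro hφ
      obtain ⟨x₂, h⟩ := Ext.covariant_sequence_exact₃ X hS (Ext.mk₀ φ) (show 0 + 1 = 1 from rfl) hφ
      obtain ⟨ψ, rfl⟩ := (Ext.mk₀_bijective _ _).surjective x₂
      rw [Ext.mk₀_comp_mk₀] at h
      exact ⟨ψ, (Ext.mk₀_bijective _ _).injective h⟩)).trans
    (QuotientAddGroup.quotientKerEquivOfSurjective δ (fun x => by
      obtain ⟨x₁, h⟩ := Ext.covariant_sequence_exact₁ X hS x (Subsingleton.elim _ _) (show 0 + 1 = 1 from rfl)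
      obtain ⟨φ, rfl⟩ := (Ext.mk₀_bijective _ _).surjective x₁
      exact ⟨φ, h⟩))

end Groth.Agent.H15.CanDual.ExtShift
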