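import Groth.Agent.H15.CanDual.Between
import Groth.Agent.H15.CanDual.ExtShift
import Groth.Agent.S15013
import Mathlib.Algebra.Category.ModuleCat.Abelian

set_option autoImplicit false

universe u

open CategoryTheory CategoryTheory.Abelian
open Groth.Agent.H15.CanDual.RLen Groth.Agent.H15.CanDual.Basic Groth.Agent.H15.CanDual.Conductor
  Groth.Agent.H15.CanDual.Hom Groth.Agent.H15.CanDual.Between

namespace Groth.Agent.H15.CanDual.DualExt

variable {O : Type u} [CommRing O] [IsDomain O] {K : Type u} [Field K] [Algebra O K] [IsFractionRing O K]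

theorem noZeroSMul_sub (ω : Submodule O K) : NoZeroSMulDivisors O ↥ω :=
  ⟨fun {c v} h => by
    by_cases hc : c = 0
    · exact Or.inl hc
    · refine Or.inr (Subtype.ext ?_)
      have h1 := congrArg Subtype.val h
      simp only [Submodule.coe_smul, Submodule.coe_zero, Algebra.smul_def] at h1
      exact (mul_eq_zero.mp h1).resolve_left (algebraMap_ne hc)⟩

theorem noZeroSMul_hom (ω : Submodule O K) (M : Type u) [AddCommGroup M] [Module O M] :
    NoZeroSMulDivisors O (M →ₗ[O] ↥ω) :=
  haveI := noZeroSMul_sub ω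
  ⟨fun {c f} h => by
    by_cases hc : c = 0
    · exact Or.inl hc
    · exact Or.inr (LinearMap.ext fun x => (smul_eq_zero.mp (LinearMap.congr_fun h x)).resolve_left hc)⟩

/-- the evaluation map -/
def ev (ω : Submodule O K) (M : Type u) [AddCommGroup M] [Module O M] : M →ₗ[O] (M →ₗ[O] ↥ω) →ₗ[O] ↥ω :=
  LinearMap.flip LinearMap.id

theorem ev_apply (ω : Submodule O K) {M : Type u} [AddCommGroup M] [Module O M] (x : M) (f : M →ₗ[O] ↥ω) :
    ev ω M x f = f x := rfl

variable [IsNoetherianRing O] [IsLocalRing O] [IsAlgClosed (IsLocalRing.ResidueField O)]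
  (hdim : ringKrullDim O = 1) (hfin : Module.Finite O ↥(integralClosure O K))
  {ω : Submodule O K} (hω : IsCan ω)
  (M : Type u) [AddCommGroup M] [Module O M] [Module.Finite O M] [NoZeroSMulDivisors O M]

include hdim hfin hω in
theorem ev_bijective : Function.Bijective (ev ω M) := by
  obtain ⟨X, hX, -, -, ⟨e⟩⟩ := exists_between hdim hfin M (K := K) rfl
  have hD := hX.isLat_dual hω
  constructor
  · intro a b hab
    apply e.injective
    have hdd := dual_dual hdim hω hX
    apply (LinearEquiv.ofEq _ _ hdd.symm).injective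
    apply (toHom_bijective ω hD).1
    refine LinearMap.ext fun v => ?_
    have h := LinearMap.congr_fun hab (toHom ω X v ∘ₗ e.toLinearMap)
    apply Subtype.ext
    rw [toHom_apply, toHom_apply]
    exact (pairL_comm _ _).trans ((congrArg Subtype.val h).trans (pairL_comm _ _))
  · intro ξ
    let ζ : ↥(dual ω X) →ₗ[O] ↥ω := ξ ∘ₗ (LinearMap.lcomp O ↥ω e.toLinearMap) ∘ₗ toHom ω X
    obtain ⟨y, hy⟩ := (toHom_bijective ω hD).2 ζ
    obtain ⟨y, hyX⟩ := y
    rw [dual_dual hdim hω hX] at hyX
    refine ⟨e.symm ⟨y, hyX⟩, LinearMap.ext fun f => ?_⟩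
    obtain ⟨v, hv⟩ := (toHom_bijective ω hX).2 (f ∘ₗ e.symm.toLinearMap)
    have h1 : f = LinearMap.lcomp O ↥ω e.toLinearMap (toHom ω X v) := by
      rw [hv]
      exact LinearMap.ext fun m => by simp
    have h2 : ξ f = ζ v := by rw [h1]; rfl
    rw [h2, ← hy]
    apply Subtype.ext
    rw [toHom_apply, pairL_comm]
    have h3 : ((ev ω M (e.symm ⟨y, hyX⟩) f : ↥ω) : K) = ((toHom ω X v ⟨y, hyX⟩ : ↥ω) : K) := by
      rw [hv]; rfl
    rw [h3, toHom_apply]

include hdim hfin hω in
theorem ext_omega_subsingleton (i : ℕ) (hi : 1 ≤ i) :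
    Subsingleton (Ext (ModuleCat.of O M) (ModuleCat.of O ↥ω) i) :=
  Groth.Agent.S15013.result O hdim K hfin ω hω.ne_bot hω.fg hω.injdim M i hi

include hdim hfin hω in
theorem ext_dual_free_subsingleton (m i : ℕ) (hi : 1 ≤ i) :
    Subsingleton (Ext (ModuleCat.of O M) (ModuleCat.of O ((Fin m → O) →ₗ[O] ↥ω)) i) := by
  haveI := ext_omega_subsingleton hdim hfin hω M i hi
  refine subsingleton_of_forall_eq 0 fun x => ?_
  let π : Fin m → (ModuleCat.of O ((Fin m → O) →ₗ[O] ↥ω) ⟶ ModuleCat.of O ↥ω) := fun k =>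
    ModuleCat.ofHom (LinearMap.applyₗ (Pi.single k 1 : Fin m → O))
  let ι : Fin m → (ModuleCat.of O ↥ω ⟶ ModuleCat.of O ((Fin m → O) →ₗ[O] ↥ω)) := fun k =>
    ModuleCat.ofHom (LinearMap.smulRightₗ (LinearMap.proj k : (Fin m → O) →ₗ[O] O))
  have h1 : ∑ k, π k ≫ ι k = 𝟙 (ModuleCat.of O ((Fin m → O) →ₗ[O] ↥ω)) := by
    refine ModuleCat.hom_ext (LinearMap.ext fun f => LinearMap.ext fun z => ?_)
    rw [ModuleCat.hom_sum, LinearMap.sum_apply, LinearMap.sum_apply]
    show ∑ k, z k • f (Pi.single k 1) = f z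
    simp_rw [← map_smul f, ← map_sum f]
    congr 1
    funext j
    simp [Finset.sum_apply, Pi.single_apply]
  have h2 := x.comp_mk₀_id
  rw [← h1, Ext.mk₀_sum, Ext.comp_sum] at h2
  rw [← h2]
  refine Finset.sum_eq_zero fun k _ => ?_
  rw [← Ext.mk₀_comp_mk₀, ← Ext.comp_assoc _ _ _ (add_zero i) (zero_add 0) (by omega),
    Subsingleton.elim (x.comp (Ext.mk₀ (π k)) (add_zero i)) 0, Ext.zero_comp]

theorem ext_free_subsingleton (B : ModuleCat.{u} O) (m i : ℕ) :
    Subsingleton (Ext (ModuleCat.of O (Fin m → O)) B (i + 1)) := by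
  haveI : Projective (ModuleCat.of O (Fin m → O)) := ModuleCat.projective_of_free (Pi.basisFun O (Fin m))
  exact subsingleton_of_forall_eq 0 fun y => Ext.eq_zero_of_projective y

/-- `f ↦ f^*` -/
def dmap (ω : Submodule O K) {A B : Type u} [AddCommGroup A] [Module O A] [AddCommGroup B] [Module O B] :
    (ModuleCat.of O A ⟶ ModuleCat.of O B) →+
      (ModuleCat.of O (B →ₗ[O] ↥ω) ⟶ ModuleCat.of O (A →ₗ[O] ↥ω)) :=
  AddMonoidHom.mk' (fun f => ModuleCat.ofHom (LinearMap.lcomp O ↥ω f.hom)) fun f g =>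
    ModuleCat.hom_ext (LinearMap.ext fun φ => LinearMap.ext fun a => map_add φ (f.hom a) (g.hom a))

include hdim hfin hω in
theorem dmap_bijective (A : Type u) [AddCommGroup A] [Module O A] (B : Type u) [AddCommGroup B] [Module O B]
    [Module.Finite O B] [NoZeroSMulDivisors O B] :
    Function.Bijective (dmap ω (A := A) (B := B)) := by
  have hev := ev_bijective hdim hfin hω B
  constructor
  · intro f g h
    refine ModuleCat.hom_ext (LinearMap.ext fun a => hev.1 (LinearMap.ext fun φ => ?_))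
    exact LinearMap.congr_fun (LinearMap.congr_fun (congrArg ModuleCat.Hom.hom h) φ) a
  · intro ψ
    let e := LinearEquiv.ofBijective (ev ω B) hev
    let f : A →ₗ[O] B := e.symm.toLinearMap ∘ₗ LinearMap.lcomp O ↥ω ψ.hom ∘ₗ ev ω A
    refine ⟨ModuleCat.ofHom f, ModuleCat.hom_ext (LinearMap.ext fun φ => LinearMap.ext fun a => ?_)⟩
    show φ (f a) = ψ.hom φ a
    exact LinearMap.congr_fun (e.apply_symm_apply ((LinearMap.lcomp O ↥ω ψ.hom) (ev ω A a))) φ

include hdim hfin hω in
/-- `Ext^i(A, B) ≅ Ext^i(B*, A*)`. -/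
theorem ext_dual (i : ℕ) : ∀ (A : Type u) [AddCommGroup A] [Module O A] [Module.Finite O A] [NoZeroSMulDivisors O A]
    (B : Type u) [AddCommGroup B] [Module O B] [Module.Finite O B] [NoZeroSMulDivisors O B],
    Nonempty (Ext (ModuleCat.of O A) (ModuleCat.of O B) i ≃+
      Ext (ModuleCat.of O (B →ₗ[O] ↥ω)) (ModuleCat.of O (A →ₗ[O] ↥ω)) i) := by
  cases i with
  | zero =>
    intro A _ _ _ _ B _ _ _ _
    exact ⟨Ext.addEquiv₀.trans ((AddEquiv.ofBijective _ (dmap_bijective hdim hfin hω A B)).trans Ext.addEquiv₀.symm)⟩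
  | succ j =>
    induction j with
    | zero =>
      intro A _ _ _ _ B _ _ _ _
      haveI : Module.Finite O ↥ω := Module.Finite.iff_fg.mpr hω.fg
      haveI := noZeroSMul_hom ω B
      obtain ⟨m, p, hp⟩ := Module.Finite.exists_fin' O A
      let S1 : ShortComplex (ModuleCat.{u} O) := ShortComplex.mk (ModuleCat.ofHom (LinearMap.ker p).subtype)
        (ModuleCat.ofHom p) (ModuleCat.hom_ext (LinearMap.ext fun x => x.2))
      have hS1 : S1.ShortExact :=
        { exact := (ShortComplex.moduleCat_exact_iff_ker_sub_range _).2 fun x hx => ⟨⟨x, hx⟩, rfl⟩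
          mono_f := (ModuleCat.mono_iff_injective _).2 Subtype.val_injective
          epi_g := (ModuleCat.epi_iff_surjective _).2 hp }
      let S2 : ShortComplex (ModuleCat.{u} O) := ShortComplex.mk (dmap ω S1.g) (dmap ω S1.f) (by
        refine ModuleCat.hom_ext (LinearMap.ext fun φ => LinearMap.ext fun x => ?_)
        show φ (p ((x : ↥(LinearMap.ker p)) : Fin m → O)) = 0
        rw [LinearMap.mem_ker.mp x.2, map_zero])
      have hS2 : S2.ShortExact :=
        { exact := (ShortComplex.moduleCat_exact_iff_ker_sub_range _).2 fun φ hφ => by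
            have hk : LinearMap.ker p ≤ LinearMap.ker φ := fun z hz => LinearMap.congr_fun (LinearMap.mem_ker.mp hφ) ⟨z, hz⟩
            refine ⟨(LinearMap.ker p).liftQ φ hk ∘ₗ
              (p.quotKerEquivOfSurjective hp).symm.toLinearMap, LinearMap.ext fun x => ?_⟩
            show (LinearMap.ker p).liftQ φ hk ((p.quotKerEquivOfSurjective hp).symm (p x)) = φ x
            have : (p.quotKerEquivOfSurjective hp).symm (p x) = Submodule.Quotient.mk x := by
              rw [LinearEquiv.symm_apply_eq]; simp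
            rw [this, Submodule.liftQ_apply]
          mono_f := (ModuleCat.mono_iff_injective _).2 fun φ ψ h => LinearMap.ext fun a => by
            obtain ⟨x, rfl⟩ := hp a
            exact LinearMap.congr_fun h x
          epi_g := (ModuleCat.epi_iff_surjective _).2 fun φ => by
            haveI := ext_omega_subsingleton hdim hfin hω A 1 le_rfl
            obtain ⟨y, hy⟩ := Ext.contravariant_sequence_exact₁ hS1 (ModuleCat.of O ↥ω)
              (Ext.mk₀ (ModuleCat.ofHom φ)) (show 1 + 0 = 1 from rfl) (Subsingleton.elim _ _)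
            obtain ⟨ψ, rfl⟩ := (Ext.mk₀_bijective _ _).surjective y
            rw [Ext.mk₀_comp_mk₀] at hy
            exact ⟨ψ.hom, congrArg ModuleCat.Hom.hom ((Ext.mk₀_bijective _ _).injective hy)⟩ }
      have e1 := ExtShift.one₁ hS1 (ModuleCat.of O B) (ext_free_subsingleton _ m 0)
      have e2 := ExtShift.one₂ hS2 (ModuleCat.of O (B →ₗ[O] ↥ω))
        (ext_dual_free_subsingleton hdim hfin hω (B →ₗ[O] ↥ω) m 1 le_rfl)
      refine ⟨e1.symm.trans ((QuotientAddGroup.congr _ _
        (AddEquiv.ofBijective _ (dmap_bijective hdim hfin hω ↥(LinearMap.ker p) B)) ?_).trans e2)⟩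
      ext φ
      constructor
      · rintro ⟨_, ⟨ψ, rfl⟩, rfl⟩
        exact ⟨dmap ω ψ, rfl⟩
      · rintro ⟨χ, rfl⟩
        obtain ⟨ψ, rfl⟩ := (dmap_bijective hdim hfin hω (Fin m → O) B).2 χ
        exact ⟨_, ⟨ψ, rfl⟩, rfl⟩
    | succ j ih =>
      intro A _ _ _ _ B _ _ _ _
      haveI : Module.Finite O ↥ω := Module.Finite.iff_fg.mpr hω.fg
      haveI := noZeroSMul_hom ω B
      obtain ⟨m, p, hp⟩ := Module.Finite.exists_fin' O A
      let S1 : ShortComplex (ModuleCat.{u} O) := ShortComplex.mk (ModuleCat.ofHom (LinearMap.ker p).subtype)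
        (ModuleCat.ofHom p) (ModuleCat.hom_ext (LinearMap.ext fun x => x.2))
      have hS1 : S1.ShortExact :=
        { exact := (ShortComplex.moduleCat_exact_iff_ker_sub_range _).2 fun x hx => ⟨⟨x, hx⟩, rfl⟩
          mono_f := (ModuleCat.mono_iff_injective _).2 Subtype.val_injective
          epi_g := (ModuleCat.epi_iff_surjective _).2 hp }
      let S2 : ShortComplex (ModuleCat.{u} O) := ShortComplex.mk (dmap ω S1.g) (dmap ω S1.f) (by
        refine ModuleCat.hom_ext (LinearMap.ext fun φ => LinearMap.ext fun x => ?_)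
        show φ (p ((x : ↥(LinearMap.ker p)) : Fin m → O)) = 0
        rw [LinearMap.mem_ker.mp x.2, map_zero])
      have hS2 : S2.ShortExact :=
        { exact := (ShortComplex.moduleCat_exact_iff_ker_sub_range _).2 fun φ hφ => by
            have hk : LinearMap.ker p ≤ LinearMap.ker φ := fun z hz => LinearMap.congr_fun (LinearMap.mem_ker.mp hφ) ⟨z, hz⟩
            refine ⟨(LinearMap.ker p).liftQ φ hk ∘ₗ
              (p.quotKerEquivOfSurjective hp).symm.toLinearMap, LinearMap.ext fun x => ?_⟩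
            show (LinearMap.ker p).liftQ φ hk ((p.quotKerEquivOfSurjective hp).symm (p x)) = φ x
            have : (p.quotKerEquivOfSurjective hp).symm (p x) = Submodule.Quotient.mk x := by
              rw [LinearEquiv.symm_apply_eq]; simp
            rw [this, Submodule.liftQ_apply]
          mono_f := (ModuleCat.mono_iff_injective _).2 fun φ ψ h => LinearMap.ext fun a => by
            obtain ⟨x, rfl⟩ := hp a
            exact LinearMap.congr_fun h x
          epi_g := (ModuleCat.epi_iff_surjective _).2 fun φ => by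
            haveI := ext_omega_subsingleton hdim hfin hω A 1 le_rfl
            obtain ⟨y, hy⟩ := Ext.contravariant_sequence_exact₁ hS1 (ModuleCat.of O ↥ω)
              (Ext.mk₀ (ModuleCat.ofHom φ)) (show 1 + 0 = 1 from rfl) (Subsingleton.elim _ _)
            obtain ⟨ψ, rfl⟩ := (Ext.mk₀_bijective _ _).surjective y
            rw [Ext.mk₀_comp_mk₀] at hy
            exact ⟨ψ.hom, congrArg ModuleCat.Hom.hom ((Ext.mk₀_bijective _ _).injective hy)⟩ }
      haveI : NoZeroSMulDivisors O (Fin m → O) := inferInstance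
      haveI : NoZeroSMulDivisors O ↥(LinearMap.ker p) :=
        ⟨fun {c v} h => (smul_eq_zero.mp (congrArg Subtype.val h)).imp id fun h' => Subtype.ext h'⟩
      obtain ⟨e⟩ := ih ↥(LinearMap.ker p) B
      exact ⟨(ExtShift.shift₁ hS1 (ModuleCat.of O B) j (ext_free_subsingleton _ m j)
        (ext_free_subsingleton _ m (j + 1))).symm.trans (e.trans
          (ExtShift.shift₂ hS2 (ModuleCat.of O (B →ₗ[O] ↥ω)) j
            (ext_dual_free_subsingleton hdim hfin hω (B →ₗ[O] ↥ω) m (j + 1) (by omega))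
            (ext_dual_free_subsingleton hdim hfin hω (B →ₗ[O] ↥ω) m (j + 2) (by omega))))⟩

end Groth.Agent.H15.CanDual.DualExt
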