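import Groth.Agent.H15.CanDual.Basic
import Mathlib.RingTheory.Localization.Module
import Mathlib.RingTheory.Localization.BaseChange
import Mathlib.LinearAlgebra.Dimension.Constructions

set_option autoImplicit false

universe u

open Groth.Agent.H15.CanDual.RLen Groth.Agent.H15.CanDual.Basic

namespace Groth.Agent.H15.CanDual.Hom

variable {O : Type u} [CommRing O] [IsDomain O] {K : Type u} [Field K] [Algebra O K] [IsFractionRing O K] {n : ℕ}

theorem algebraMap_ne {a : O} (ha : a ≠ 0) : algebraMap O K a ≠ 0 :=
  fun h => ha (IsFractionRing.injective O K (h.trans (map_zero _).symm))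

/-- `v ↦ ⟨v, -⟩`. -/
noncomputable def toHom (ω : Submodule O K) (X : Submodule O (Fin n → K)) : ↥(dual ω X) →ₗ[O] (↥X →ₗ[O] ↥ω) where
  toFun v := LinearMap.codRestrict ω (pairL (O := O) (v : Fin n → K) ∘ₗ X.subtype) fun x => v.2 _ x.2
  map_add' v w := LinearMap.ext fun x => Subtype.ext (by
    show pairL (O := O) ((v : Fin n → K) + (w : Fin n → K)) (x : Fin n → K) = pairL (O := O) (v : Fin n → K) (x : Fin n → K) + pairL (O := O) (w : Fin n → K) (x : Fin n → K)
    rw [pairL_comm, map_add, pairL_comm (x : Fin n → K), pairL_comm (x : Fin n → K)])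
  map_smul' c v := LinearMap.ext fun x => Subtype.ext (by
    show pairL (O := O) (c • (v : Fin n → K)) (x : Fin n → K) = c • pairL (O := O) (v : Fin n → K) (x : Fin n → K)
    rw [pairL_comm, map_smul, pairL_comm (x : Fin n → K)])

theorem toHom_apply (ω : Submodule O K) (X : Submodule O (Fin n → K)) (v : ↥(dual ω X)) (x : ↥X) :
    ((toHom ω X v x : ↥ω) : K) = pairL (O := O) (v : Fin n → K) (x : Fin n → K) := rfl

theorem toHom_bijective (ω : Submodule O K) {X : Submodule O (Fin n → K)} (hX : IsLat X) :
    Function.Bijective (toHom ω X) := by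
  obtain ⟨a, ha, haX⟩ := hX.exists_smul_single
  have ha' := algebraMap_ne (K := K) ha
  constructor
  · intro v w h
    apply Subtype.ext
    funext i
    have h1 : pairL (O := O) (v : Fin n → K) (Pi.single i (algebraMap O K a)) = pairL (O := O) (w : Fin n → K) (Pi.single i (algebraMap O K a)) :=
      congrArg Subtype.val (LinearMap.congr_fun h ⟨_, haX i⟩)
    rw [pairL_single, pairL_single] at h1
    exact mul_right_cancel₀ ha' h1
  · intro φ
    obtain ⟨b, hb, hbX⟩ := exists_bound hX.fg
    set v : Fin n → K := fun i => ((φ ⟨_, haX i⟩ : ↥ω) : K) / algebraMap O K a with hv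
    have key : ∀ x : ↥X, pairL (O := O) v (x : Fin n → K) = ((φ x : ↥ω) : K) := by
      intro x
      choose o ho using hbX _ x.2
      have h1 : (a * b) • x = ∑ i, o i • (⟨_, haX i⟩ : ↥X) := by
        apply Subtype.ext
        funext j
        simp only [Submodule.coe_smul, Submodule.coe_sum, Finset.sum_apply, Pi.smul_apply]
        rw [Finset.sum_eq_single j]
        · rw [Pi.single_eq_same, Algebra.smul_def, Algebra.smul_def, map_mul, ho]
          ring
        · intro i _ hij; simp [Pi.single_eq_of_ne hij.symm]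
        · simp
      have h2 := congrArg (fun y => ((φ y : ↥ω) : K)) h1
      simp only [map_smul, map_sum, Submodule.coe_smul, Submodule.coe_sum] at h2
      apply mul_left_cancel₀ (algebraMap_ne (K := K) (mul_ne_zero ha hb))
      rw [← Algebra.smul_def, ← Algebra.smul_def, h2, Algebra.smul_def, pairL_apply, Finset.mul_sum]
      refine Finset.sum_congr rfl fun i _ => ?_
      rw [Algebra.smul_def, ho, map_mul, hv]
      field_simp
    exact ⟨⟨v, fun x hx => (key ⟨x, hx⟩).symm ▸ (φ ⟨x, hx⟩).2⟩, LinearMap.ext fun x => Subtype.ext (key x)⟩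

/-- `X* ≅ Hom(X, ω)`. -/
noncomputable def homEquiv (ω : Submodule O K) {X : Submodule O (Fin n → K)} (hX : IsLat X) :
    ↥(dual ω X) ≃ₗ[O] (↥X →ₗ[O] ↥ω) :=
  LinearEquiv.ofBijective (toHom ω X) (toHom_bijective ω hX)

/-- functoriality of the dual in isomorphisms. -/
noncomputable def dualCongr (ω : Submodule O K) {m : ℕ} {X : Submodule O (Fin n → K)} {Y : Submodule O (Fin m → K)}
    (hX : IsLat X) (hY : IsLat Y) (e : ↥X ≃ₗ[O] ↥Y) : ↥(dual ω X) ≃ₗ[O] ↥(dual ω Y) :=
  (homEquiv ω hX).trans ((LinearEquiv.congrLeft ↥ω O e).trans (homEquiv ω hY).symm)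

theorem isLocalizedModule_subtype {X : Submodule O (Fin n → K)} (hX : IsLat X) :
    IsLocalizedModule (nonZeroDivisors O) X.subtype := by
  haveI : IsLocalizedModule (nonZeroDivisors O) (LinearMap.id : (Fin n → K) →ₗ[O] (Fin n → K)) :=
    { map_units := fun s => by
        have hs := algebraMap_ne (K := K) (nonZeroDivisors.ne_zero s.2)
        rw [Module.End.isUnit_iff]
        constructor
        · intro x y h
          funext i
          have := congrFun h i
          simp only [Module.algebraMap_end_apply, Pi.smul_apply, Algebra.smul_def] at this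
          exact mul_left_cancel₀ hs this
        · intro x
          refine ⟨fun i => x i / algebraMap O K s, funext fun i => ?_⟩
          simp only [Module.algebraMap_end_apply, Pi.smul_apply, Algebra.smul_def]
          field_simp
      surj := fun y => ⟨⟨y, 1⟩, by simp⟩
      exists_of_eq := fun h => ⟨1, by simpa using h⟩ }
  refine ⟨fun s => IsLocalizedModule.map_units (LinearMap.id : (Fin n → K) →ₗ[O] (Fin n → K)) s, fun y => ?_, fun h => ⟨1, by simpa using h⟩⟩
  obtain ⟨c, hc, h⟩ := hX.exists_smul_mem (Submodule.fg_span_singleton y)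
  exact ⟨⟨⟨c • y, h y (Submodule.mem_span_singleton_self y)⟩, ⟨c, mem_nonZeroDivisors_of_ne_zero hc⟩⟩, rfl⟩

theorem finrank_tensor {X : Submodule O (Fin n → K)} (hX : IsLat X) :
    Module.finrank K (TensorProduct O K ↥X) = n := by
  haveI := isLocalizedModule_subtype hX
  have h : IsBaseChange K X.subtype := (isLocalizedModule_iff_isBaseChange (nonZeroDivisors O) K X.subtype).mp inferInstance
  rw [h.equiv.finrank_eq, Module.finrank_fin_fun]

end Groth.Agent.H15.CanDual.Hom
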