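import Mathlib.RingTheory.OrderOfVanishing.Basic
import Mathlib.RingTheory.Length
import Mathlib.RingTheory.Localization.FractionRing
import Mathlib.LinearAlgebra.Pi
import Mathlib.RingTheory.Finiteness.Cardinality

/-!
# Relative length of submodules
-/

set_option autoImplicit false

universe u v

namespace Groth.Agent.H15.CanDual.RLen

variable {O : Type u} [CommRing O] {V : Type v} [AddCommGroup V] [Module O V]

/-- The length of `A / (A ⊓ B)`. -/
noncomputable def rlen (B A : Submodule O V) : ℕ∞ :=
  Module.length O (↥A ⧸ B.comap A.subtype)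

theorem rlen_self (A : Submodule O V) : rlen A A = 0 := by
  rw [rlen, Module.length_eq_zero_iff, Submodule.Quotient.subsingleton_iff,
    Submodule.comap_subtype_self]

theorem le_of_rlen_eq_zero {A B : Submodule O V} (h : rlen B A = 0) : A ≤ B := by
  rw [rlen, Module.length_eq_zero_iff, Submodule.Quotient.subsingleton_iff] at h
  exact Submodule.comap_subtype_eq_top.mp h

theorem rlen_add {A B C : Submodule O V} (h1 : C ≤ B) (h2 : B ≤ A) :
    rlen C A = rlen C B + rlen B A := by
  let f : (↥B ⧸ C.comap B.subtype) →ₗ[O] ↥A ⧸ C.comap A.subtype :=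
    Submodule.mapQ _ _ (Submodule.inclusion h2) fun x hx => hx
  let g : (↥A ⧸ C.comap A.subtype) →ₗ[O] ↥A ⧸ B.comap A.subtype :=
    Submodule.factor (Submodule.comap_mono h1)
  refine Module.length_eq_add_of_exact f g ?_ ?_ ?_
  · rw [injective_iff_map_eq_zero]
    intro x hx
    obtain ⟨x, rfl⟩ := Submodule.Quotient.mk_surjective _ x
    have hx' : Submodule.Quotient.mk (Submodule.inclusion h2 x) = (0 : ↥A ⧸ C.comap A.subtype) := hx
    rw [Submodule.Quotient.mk_eq_zero] at hx'
    rw [Submodule.Quotient.mk_eq_zero]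
    exact hx'
  · exact Submodule.factor_surjective _
  · intro x
    obtain ⟨⟨a, ha⟩, rfl⟩ := Submodule.Quotient.mk_surjective _ x
    constructor
    · intro hx
      have hx' : a ∈ B := (Submodule.Quotient.mk_eq_zero (B.comap A.subtype) (x := (⟨a, ha⟩ : ↥A))).mp hx
      exact ⟨Submodule.Quotient.mk ⟨a, hx'⟩, rfl⟩
    · rintro ⟨y, hy⟩
      obtain ⟨⟨b, hb⟩, rfl⟩ := Submodule.Quotient.mk_surjective _ y
      rw [← hy]
      exact (Submodule.Quotient.mk_eq_zero _).mpr hb

theorem rlen_mono {A B C : Submodule O V} (h1 : C ≤ B) (h2 : B ≤ A) : rlen B A ≤ rlen C A := by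
  rw [rlen_add h1 h2]
  exact le_add_self

theorem rlen_mono' {A B C : Submodule O V} (h1 : C ≤ B) (h2 : B ≤ A) : rlen C B ≤ rlen C A := by
  rw [rlen_add h1 h2]
  exact le_self_add

theorem rlen_map {W : Type*} [AddCommGroup W] [Module O W] (e : V →ₗ[O] W) (he : Function.Injective e)
    (B A : Submodule O V) : rlen (B.map e) (A.map e) = rlen B A := by
  let eA : ↥A ≃ₗ[O] ↥(A.map e) := Submodule.equivMapOfInjective e he A
  have h : (B.comap A.subtype).map (eA : ↥A →ₗ[O] ↥(A.map e)) = (B.map e).comap (A.map e).subtype := by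
    ext y
    obtain ⟨x, rfl⟩ := eA.surjective y
    simp only [Submodule.mem_map_equiv, LinearEquiv.symm_apply_apply, Submodule.mem_comap,
      Submodule.subtype_apply]
    constructor
    · intro hx; exact ⟨x, hx, rfl⟩
    · rintro ⟨b, hb, hbx⟩
      have hbx' : e b = e x := hbx
      exact he hbx' ▸ hb
  exact ((Submodule.Quotient.equiv _ _ eA h).length_eq).symm

theorem rlen_pi {ι : Type} [Fintype ι] {M : ι → Type v} [∀ i, AddCommGroup (M i)] [∀ i, Module O (M i)]
    (B A : ∀ i, Submodule O (M i)) :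
    rlen (Submodule.pi Set.univ B) (Submodule.pi Set.univ A) = ∑ i, rlen (B i) (A i) := by
  let f : ↥(Submodule.pi Set.univ A) →ₗ[O] ∀ i, ↥(A i) ⧸ (B i).comap (A i).subtype :=
    LinearMap.pi fun i => ((B i).comap (A i).subtype).mkQ ∘ₗ
      ((LinearMap.proj i ∘ₗ (Submodule.pi Set.univ A).subtype).codRestrict (A i)
        fun x => x.2 i (Set.mem_univ i))
  have hf : Function.Surjective f := by
    intro y
    choose a ha using fun i => Submodule.Quotient.mk_surjective _ (y i)
    exact ⟨⟨fun i => (a i : M i), fun i _ => (a i).2⟩, funext fun i => ha i⟩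
  have hk : LinearMap.ker f = (Submodule.pi Set.univ B).comap (Submodule.pi Set.univ A).subtype := by
    ext x
    constructor
    · intro hx i _
      have h1 := (Submodule.Quotient.mk_eq_zero ((B i).comap (A i).subtype)).mp (congrFun (LinearMap.mem_ker.mp hx) i)
      exact h1
    · intro hx
      exact LinearMap.mem_ker.mpr (funext fun i => (Submodule.Quotient.mk_eq_zero ((B i).comap (A i).subtype)).mpr (hx i (Set.mem_univ i)))
  rw [rlen, ← hk, (f.quotKerEquivOfSurjective hf).length_eq, Module.length_pi_of_fintype]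
  rfl

theorem isFiniteLength_of_smul_eq_zero [IsDomain O] [IsNoetherianRing O] [Ring.KrullDimLE 1 O] {T : Type*}
    [AddCommGroup T] [Module O T] [Module.Finite O T] {c : O} (hc : c ≠ 0) (h : ∀ t : T, c • t = 0) :
    IsFiniteLength O T := by
  obtain ⟨N, g, hg⟩ := Module.Finite.exists_fin' O T
  let f : (Fin N → O) →ₗ[O] (Fin N → O ⧸ Ideal.span {c}) :=
    LinearMap.pi fun i => (Ideal.span {c}).mkQ ∘ₗ LinearMap.proj i
  have hf : Function.Surjective f := fun y => by
    choose a ha using fun i => Submodule.Quotient.mk_surjective _ (y i)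
    exact ⟨a, funext fun i => ha i⟩
  have hk : LinearMap.ker f ≤ LinearMap.ker g := by
    intro x hx
    have : ∀ i, ∃ y, y * c = x i := fun i => Ideal.mem_span_singleton'.mp
      ((Submodule.Quotient.mk_eq_zero _).mp (congrFun (LinearMap.mem_ker.mp hx) i))
    choose y hy using this
    have hxy : x = c • y := funext fun i => by rw [Pi.smul_apply, smul_eq_mul, mul_comm]; exact (hy i).symm
    rw [LinearMap.mem_ker, hxy, map_smul, h]
  let q : (Fin N → O ⧸ Ideal.span {c}) →ₗ[O] T :=
    (LinearMap.ker f).liftQ g hk ∘ₗ (f.quotKerEquivOfSurjective hf).symm.toLinearMap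
  have hq : Function.Surjective q := by
    intro t
    obtain ⟨x, rfl⟩ := hg t
    refine ⟨f x, ?_⟩
    have : (f.quotKerEquivOfSurjective hf).symm (f x) = Submodule.Quotient.mk x := by
      rw [LinearEquiv.symm_apply_eq]; simp
    simp [q, this]
  rw [← Module.length_ne_top_iff]
  refine ne_top_of_le_ne_top ?_ (Module.length_le_of_surjective q hq)
  rw [Module.length_pi]
  refine WithTop.mul_ne_top (by rw [ENat.card_eq_coe_fintype_card]; exact ENat.natCast_ne_top _) ?_
  exact Module.length_ne_top_iff.mpr (isFiniteLength_quotient_span_singleton O (mem_nonZeroDivisors_of_ne_zero hc))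

theorem rlen_ne_top [IsDomain O] [IsNoetherianRing O] [Ring.KrullDimLE 1 O] {A B : Submodule O V} (hA : A.FG)
    {c : O} (hc : c ≠ 0) (h : ∀ a ∈ A, c • a ∈ B) : rlen B A ≠ ⊤ := by
  haveI : Module.Finite O ↥A := Module.Finite.iff_fg.mpr hA
  rw [rlen, Module.length_ne_top_iff]
  refine isFiniteLength_of_smul_eq_zero hc fun t => ?_
  obtain ⟨⟨a, ha⟩, rfl⟩ := Submodule.Quotient.mk_surjective _ t
  rw [← Submodule.Quotient.mk_smul, Submodule.Quotient.mk_eq_zero]
  exact h a ha

end Groth.Agent.H15.CanDual.RLen
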